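import Groth.Agent.WeilComp27.Chart
import Groth.Prelude.Def_SGA3x
import Groth.Prelude.Def_SGA7IX

/-!
# Components of the special fibre of a Weil restriction
-/

set_option autoImplicit false
set_option linter.all false
set_option backward.isDefEq.respectTransparency false
set_option backward.isDefEq.respectTransparency.types false
set_option maxHeartbeats 1000000

universe u

open CategoryTheory CategoryTheory.Limits AlgebraicGeometry TensorProduct MonoidalCategory CartesianMonoidalCategory MonObj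

noncomputable section

namespace Groth.Agent.WeilComp27

variable {R R' : Type u} [CommRing R] [CommRing R'] [Algebra R R'] [IsLocalRing R] [IsLocalRing R']
  (D : Red R R') {N' : Over (Spec (CommRingCat.of R'))} {W : Over (Spec (CommRingCat.of R))}
  {q : _root_.Red.bc (str R' R) W ⟶ N'}

local notation3 "κ" => IsLocalRing.ResidueField R

/-- The data of the reduction exist. -/
theorem exists_red (R R' : Type u) [CommRing R] [IsDomain R] [IsDiscreteValuationRing R]
    [CommRing R'] [IsDomain R'] [IsDiscreteValuationRing R'] [Algebra R R'] [Module.Finite R R'] [FaithfulSMul R R']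
    [IsAlgClosed (IsLocalRing.ResidueField R)] : Nonempty (Red R R') := by
  haveI : IsLocalHom (algebraMap R R') := Algebra.IsIntegral.isLocalHom R R'
  haveI : Module.Finite (IsLocalRing.ResidueField R) (IsLocalRing.ResidueField R') := inferInstance
  have hb := IsAlgClosed.algebraMap_bijective_of_isIntegral (k := IsLocalRing.ResidueField R)
    (K := IsLocalRing.ResidueField R')
  let e := RingEquiv.ofBijective _ hb
  let θ : R' →+* IsLocalRing.ResidueField R := e.symm.toRingHom.comp (IsLocalRing.residue R')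
  obtain ⟨ϖ, hϖ⟩ := IsDiscreteValuationRing.exists_irreducible R
  have h0 : algebraMap R R' ϖ ≠ 0 := (map_ne_zero_iff _ (FaithfulSMul.algebraMap_injective R R')).2 hϖ.ne_zero
  have hne : (IsLocalRing.maximalIdeal R).map (algebraMap R R') ≠ ⊥ := fun h => h0 (by
    have hm : algebraMap R R' ϖ ∈ (IsLocalRing.maximalIdeal R).map (algebraMap R R') :=
      Ideal.mem_map_of_mem _ (by rw [IsLocalRing.mem_maximalIdeal]; exact hϖ.not_isUnit)
    rw [h] at hm; exact hm)
  obtain ⟨π, hπ⟩ := IsDiscreteValuationRing.exists_irreducible R'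
  obtain ⟨n, hn⟩ := IsDiscreteValuationRing.ideal_eq_span_pow_irreducible hne hπ
  refine ⟨⟨θ, fun r => ?_, ?_, n, ?_⟩⟩
  · exact e.symm_apply_eq.2 rfl
  · ext r
    rw [RingHom.mem_ker]
    show e.symm (IsLocalRing.residue R' r) = 0 ↔ _
    rw [map_eq_zero_iff _ e.symm.injective]
    exact Ideal.Quotient.eq_zero_iff_mem
  · rw [hn, hπ.maximalIdeal_eq, Ideal.span_singleton_pow]

variable [Smooth N'.hom]

theorem rd_mem_fib (x : T R κ ⟶ W) : rd D q x ∈ fib R' N' := by
  letI := D.alg
  haveI := D.tower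
  show (img q κ x ≫ N'.hom) D.pt = IsLocalRing.closedPoint R'
  unfold img
  rw [Category.assoc, Over.w, sp_snd]
  unfold Red.pt
  rw [← Scheme.Hom.comp_apply, ← Spec.map_comp]
  refine PrimeSpectrum.ext ?_
  ext r
  show Algebra.TensorProduct.lift (Algebra.ofId R' κ) (AlgHom.id R κ) (fun _ _ => Commute.all _ _)
    (algebraMap R' (R' ⊗[R] κ) r) ∈ IsLocalRing.maximalIdeal κ ↔ r ∈ IsLocalRing.maximalIdeal R'
  rw [AlgHom.commutes, IsLocalRing.isField_iff_maximalIdeal_eq.1 (Field.toIsField κ), Ideal.mem_bot, ← D.hker]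
  rfl

include D in
theorem loc_mem_fib (x : T R κ ⟶ W) : loc x ∈ fib R W :=
  letI := D.alg
  haveI := D.tower
  mem_fib D (A := κ) D.kills x _

/-- Restriction at the point of the base change. -/
theorem restr_apply_eq (x : T R κ ⟶ W) (z : ↥(_root_.Red.bc (str R' R) (T R κ)).left) :
    (WeilRes.restr (str R' R) q (T R κ) x).left z = rd D q x := by
  obtain ⟨Q, rfl⟩ := (sp R' (R := R) κ).surjective z
  rw [D.eq_pt Q]
  rfl

variable [IsAlgClosed (IsLocalRing.ResidueField R)]

/-- Each component of the special fibre receives the reduction of a point. -/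
theorem exists_rd_mem (hW : WeilRes.IsWeilRes (str R' R) N' W q) (y : N'.left) (hy : y ∈ fib R' N') :
    ∃ x : T R κ ⟶ W, rd D q x ∈ connectedComponentIn (fib R' N') y := by
  obtain ⟨V, hV, hyV, hirr, hsub⟩ := exists_chart N' y hy
  obtain ⟨S, -, -, hS, -, -⟩ := exists_family D hW hV hirr
  obtain ⟨x, -, hx⟩ := hS Set.univ isOpen_univ ⟨y, ⟨hyV, hy⟩, trivial⟩
  exact ⟨x, hsub hx.1⟩

/-- Points with reductions in one component lie in one component. -/
theorem loc_mem_of_rd_mem (hW : WeilRes.IsWeilRes (str R' R) N' W q) (x₀ x₁ : T R κ ⟶ W)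
    (h : rd D q x₁ ∈ connectedComponentIn (fib R' N') (rd D q x₀)) :
    loc x₁ ∈ connectedComponentIn (fib R W) (loc x₀) := by
  obtain ⟨V₀, hV₀, hy₀, hi₀, hs₀⟩ := exists_chart N' _ (rd_mem_fib D (q := q) x₀)
  obtain ⟨V₁, hV₁, hy₁, hi₁, hs₁⟩ := exists_chart N' _ (rd_mem_fib D (q := q) x₁)
  obtain ⟨S₀, hc₀, hS₀, hop₀, hpt₀, -⟩ := exists_family D hW hV₀ hi₀
  obtain ⟨S₁, hc₁, hS₁, -, hpt₁, -⟩ := exists_family D hW hV₁ hi₁
  obtain ⟨hirr, -⟩ := component_spec N' _ (rd_mem_fib D (q := q) x₀)
  have hne : (((V₀ : Set N'.left) ∩ fib R' N') ∩ (V₁ : Set N'.left)).Nonempty := by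
    obtain ⟨w, hwC, hw0, hw1⟩ := hirr.isPreirreducible V₀ V₁ V₀.isOpen V₁.isOpen
      ⟨_, mem_connectedComponentIn (rd_mem_fib D x₀), hy₀⟩ ⟨_, h, hy₁⟩
    exact ⟨w, ⟨hw0, connectedComponentIn_subset _ _ hwC⟩, hw1⟩
  obtain ⟨y₀, hy₀S, hy₀e⟩ := hpt₀ x₀ hy₀
  obtain ⟨y₁, hy₁S, hy₁e⟩ := hpt₁ x₁ hy₁
  obtain ⟨z, hzS, hz⟩ := hop₀ V₁ V₁.isOpen hne
  obtain ⟨z', hz'S, hz'e⟩ := hpt₁ z hz.2
  have e1 : connectedComponentIn (fib R W) (loc x₀) = connectedComponentIn (fib R W) (loc y₀) :=
    connectedComponentIn_eq (loc_of_rd_eq D hW x₀ y₀ hy₀e.symm)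
  have e2 : connectedComponentIn (fib R W) (loc y₀) = connectedComponentIn (fib R W) (loc z) :=
    connectedComponentIn_eq (hc₀.subset_connectedComponentIn hy₀S hS₀ hzS)
  have e3 : connectedComponentIn (fib R W) (loc z) = connectedComponentIn (fib R W) (loc z') :=
    connectedComponentIn_eq (loc_of_rd_eq D hW z z' hz'e.symm)
  have e4 : connectedComponentIn (fib R W) (loc z') = connectedComponentIn (fib R W) (loc y₁) :=
    connectedComponentIn_eq (hc₁.subset_connectedComponentIn hz'S hS₁ hy₁S)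
  rw [e1, e2, e3, e4]
  exact loc_of_rd_eq D hW y₁ x₁ hy₁e

omit [IsAlgClosed (IsLocalRing.ResidueField R)] in
/-- Points in one component have reductions in one component. -/
theorem rd_mem_of_loc_mem (x₀ x₁ : T R κ ⟶ W) (h : loc x₁ ∈ connectedComponentIn (fib R W) (loc x₀)) :
    rd D q x₁ ∈ connectedComponentIn (fib R' N') (rd D q x₀) := by
  let res : Spec (CommRingCat.of κ) ⟶ Spec (CommRingCat.of R) :=
    Spec.map (CommRingCat.ofHom (algebraMap R κ))
  let c : Spec (CommRingCat.of κ) ⟶ Spec (CommRingCat.of R') := Spec.map (CommRingCat.ofHom D.θ)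
  have hc : c ≫ str R' R = res := by
    rw [← Spec.map_comp, ← CommRingCat.ofHom_comp]
    congr 2
    exact RingHom.ext D.hθ
  let P : Scheme.{u} := pullback W.hom res
  let T₁ : Over (Spec (CommRingCat.of R)) := Over.mk (pullback.snd W.hom res ≫ res)
  let g₁ : T₁ ⟶ W := Over.homMk (pullback.fst W.hom res) pullback.condition
  let ι₁ : P ⟶ (_root_.Red.bc (str R' R) T₁).left :=
    pullback.lift (𝟙 P) (pullback.snd W.hom res ≫ c) (by
      rw [Category.id_comp, Category.assoc, hc]; rfl)
  let ρ : P ⟶ N'.left := ι₁ ≫ (WeilRes.restr (str R' R) q T₁ g₁).left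
  have hρ : ρ ≫ N'.hom = pullback.snd W.hom res ≫ c := by
    rw [Category.assoc, Over.w]
    exact pullback.lift_snd _ _ _
  have hρfib : ∀ p, ρ p ∈ fib R' N' := fun p => by
    show (ρ ≫ N'.hom) p = IsLocalRing.closedPoint R'
    rw [hρ, Scheme.Hom.comp_apply]
    refine PrimeSpectrum.ext ?_
    show Ideal.comap D.θ _ = IsLocalRing.maximalIdeal R'
    rw [Subsingleton.elim ((pullback.snd W.hom res) p) (IsLocalRing.closedPoint κ), ← D.hker]
    show Ideal.comap D.θ (IsLocalRing.maximalIdeal κ) = _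
    rw [IsLocalRing.isField_iff_maximalIdeal_eq.1 (Field.toIsField κ)]
    rfl
  have key : ∀ x : T R κ ⟶ W, ∃ p : P, pullback.fst W.hom res p = loc x ∧ ρ p = rd D q x := by
    intro x
    let s : Spec (CommRingCat.of κ) ⟶ P := pullback.lift x.left (𝟙 _) (by rw [Category.id_comp]; exact Over.w x)
    refine ⟨s (IsLocalRing.closedPoint κ), ?_, ?_⟩
    · rw [← Scheme.Hom.comp_apply, pullback.lift_fst]; rfl
    · let sT : T R κ ⟶ T₁ := Over.homMk s (by
        show s ≫ pullback.snd W.hom res ≫ res = _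
        rw [pullback.lift_snd_assoc, Category.id_comp]; rfl)
      have hx : sT ≫ g₁ = x := Over.OverMorphism.ext (pullback.lift_fst _ _ _)
      let ι₀ : Spec (CommRingCat.of κ) ⟶ (_root_.Red.bc (str R' R) (T R κ)).left :=
        pullback.lift (𝟙 _) c (by rw [Category.id_comp, hc]; rfl)
      have hι : s ≫ ι₁ = ι₀ ≫ ((Over.pullback (str R' R)).map sT).left := by
        have f1 : ((Over.pullback (str R' R)).map sT).left ≫ pullback.fst T₁.hom (str R' R) =
            pullback.fst (T R κ).hom (str R' R) ≫ s := pullback.lift_fst _ _ _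
        have f2 : ((Over.pullback (str R' R)).map sT).left ≫ pullback.snd T₁.hom (str R' R) =
            pullback.snd (T R κ).hom (str R' R) := pullback.lift_snd _ _ _
        apply pullback.hom_ext
        · rw [Category.assoc, Category.assoc, f1]
          erw [pullback.lift_fst, pullback.lift_fst_assoc]
          simp
        · rw [Category.assoc, Category.assoc, f2]
          erw [pullback.lift_snd, pullback.lift_snd]
          rw [← Category.assoc, pullback.lift_snd, Category.id_comp]
      have hm : s ≫ ρ = ι₀ ≫ ((Over.pullback (str R' R)).map sT).left ≫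
          (WeilRes.restr (str R' R) q T₁ g₁).left := by
        rw [← Category.assoc, ← Category.assoc, hι]
      rw [← restr_apply_eq D x (ι₀ (IsLocalRing.closedPoint κ)), ← hx, WeilRes.restr_comp, Over.comp_left]
      exact congrArg (fun m : Spec (CommRingCat.of κ) ⟶ N'.left => m (IsLocalRing.closedPoint κ)) hm
  obtain ⟨p₀, hp₀, hr₀⟩ := key x₀
  obtain ⟨p₁, hp₁, hr₁⟩ := key x₁
  have hrange : Set.range (pullback.fst W.hom res).base = fib R W := by
    rw [Scheme.Pullback.range_fst]
    congr 1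
    ext p
    constructor
    · rintro ⟨k, rfl⟩
      refine PrimeSpectrum.ext ?_
      show Ideal.comap (algebraMap R κ) k.asIdeal = IsLocalRing.maximalIdeal R
      rw [show k.asIdeal = ⊥ from k.asIdeal.eq_bot_or_top.resolve_right k.isPrime.ne_top]
      exact Ideal.mk_ker
    · rintro rfl
      exact ⟨IsLocalRing.closedPoint κ, PrimeSpectrum.ext (by
        show Ideal.comap (algebraMap R κ) (IsLocalRing.maximalIdeal κ) = IsLocalRing.maximalIdeal R
        rw [IsLocalRing.isField_iff_maximalIdeal_eq.1 (Field.toIsField κ)]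
        exact Ideal.mk_ker)⟩
  haveI : IsClosedImmersion res := IsClosedImmersion.spec_of_surjective _ IsLocalRing.residue_surjective
  have hind : Topology.IsInducing (pullback.fst W.hom res).base :=
    (pullback.fst W.hom res).isEmbedding.isInducing
  let C := connectedComponentIn (fib R W) (loc x₀)
  have hC : _root_.IsPreconnected ((pullback.fst W.hom res).base ⁻¹' C) := by
    rw [← hind.isPreconnected_image, Set.image_preimage_eq_of_subset
      (hrange ▸ connectedComponentIn_subset _ _)]
    exact isPreconnected_connectedComponentIn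
  rw [← hr₁, ← hr₀]
  refine (hC.image ρ.base ρ.continuous.continuousOn).subset_connectedComponentIn ⟨p₀, ?_, rfl⟩ ?_ ⟨p₁, ?_, rfl⟩
  · show pullback.fst W.hom res p₀ ∈ C
    rw [hp₀]; exact mem_connectedComponentIn (loc_mem_fib D x₀)
  · rintro _ ⟨p, -, rfl⟩; exact hρfib p
  · show pullback.fst W.hom res p₁ ∈ C
    rw [hp₁]; exact h

omit [IsAlgClosed (IsLocalRing.ResidueField R)] [Smooth N'.hom] in
theorem one_left {S : Scheme.{u}} {T N : Over S} [GrpObj N] : (1 : T ⟶ N).left = T.hom ≫ η[N].left := by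
  rw [Hom.one_def, Over.comp_left]
  exact congrArg (· ≫ η[N].left) ((Category.comp_id _).symm.trans (Over.w (toUnit T)))

theorem mem_neutralSet_iff {A : Type u} [CommRing A] [IsLocalRing A] (G : Over (Spec (CommRingCat.of A)))
    [GrpObj G] (w : G.left) (hw : w ∈ fib A G) :
    w ∈ SGA3x.neutralSet G ↔
      w ∈ connectedComponentIn (fib A G) (η[G].left (IsLocalRing.closedPoint A)) := by
  constructor
  · intro h
    obtain ⟨p, hp⟩ := Set.mem_iUnion.1 h
    have hp2 := connectedComponentIn_subset _ _ hp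
    have e : p = IsLocalRing.closedPoint A := (show G.hom w = p from hp2).symm.trans hw
    subst e
    exact hp
  · exact fun h => Set.mem_iUnion.2 ⟨IsLocalRing.closedPoint A, h⟩

variable [GrpObj W] [GrpObj N'] [IsMonHom q]

include D in
theorem loc_one : loc (1 : T R κ ⟶ W) = η[W].left (IsLocalRing.closedPoint R) := by
  unfold loc
  rw [one_left, Scheme.Hom.comp_apply]
  congr 1
  refine PrimeSpectrum.ext ?_
  show Ideal.comap (algebraMap R κ) (IsLocalRing.maximalIdeal κ) = IsLocalRing.maximalIdeal R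
  rw [IsLocalRing.isField_iff_maximalIdeal_eq.1 (Field.toIsField κ)]
  exact Ideal.mk_ker

theorem rd_one : rd D q (1 : T R κ ⟶ W) = η[N'].left (IsLocalRing.closedPoint R') := by
  have h := rd_mem_fib D (q := q) (1 : T R κ ⟶ W)
  rw [← restr_apply_eq D (q := q) 1 (sp R' κ D.pt), WeilRes.restr_one, one_left, Scheme.Hom.comp_apply]
  congr 1
  rw [← restr_apply_eq D (q := q) 1 (sp R' κ D.pt)] at h
  have h2 := congrArg (fun m : (_root_.Red.bc (str R' R) (T R κ)).left ⟶ _ => m (sp R' κ D.pt))
    (Over.w (WeilRes.restr (str R' R) q (T R κ) 1))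
  exact h2.symm.trans h

/-- A point reduces to the neutral component iff it lies in the neutral component. -/
theorem loc_mem_neutralSet_iff (hW : WeilRes.IsWeilRes (str R' R) N' W q) (x : T R κ ⟶ W) :
    loc x ∈ SGA3x.neutralSet W ↔ rd D q x ∈ SGA3x.neutralSet N' := by
  rw [mem_neutralSet_iff W _ (loc_mem_fib D x), mem_neutralSet_iff N' _ (rd_mem_fib D x), ← loc_one D (W := W), ← rd_one D (q := q)]
  exact ⟨rd_mem_of_loc_mem D 1 x, loc_mem_of_rd_mem D hW 1 x⟩

end Groth.Agent.WeilComp27
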