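import Groth.Agent.WeilComp27.Residue
import Groth.Agent.H8Grp.NeutralPoints

/-!
# Powers modulo the neutral component
-/

set_option autoImplicit false
set_option linter.all false
set_option backward.isDefEq.respectTransparency.types false
set_option maxHeartbeats 1600000

universe u

open CategoryTheory CategoryTheory.Limits AlgebraicGeometry MonoidalCategory CartesianMonoidalCategory MonObj GrpObj

namespace Groth.Agent.WeilComp27

open H8Grp

variable {S : Scheme.{u}} {G : Over S} [GrpObj G] {K : Type u} [Field K] (ω : Spec (CommRingCat.of K) ⟶ S)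

/-- The comparison of the two test objects of a field-valued point. -/
noncomputable def toMk : fld ω ⟶ Over.mk ω := Over.homMk (𝟙 _) (by simp)

theorem ptv_toMk (σ : Over.mk ω ⟶ G) : ptv (toMk ω ≫ σ) = σ.left (IsLocalRing.closedPoint K) := rfl

/-- A point congruent to one killed by `n` has its `n`-th power in the neutral component. -/
theorem pow_mem_neutralSet (σ τ : Over.mk ω ⟶ G) (n : ℕ)
    (h : (σ * τ⁻¹).left (IsLocalRing.closedPoint K) ∈ SGA3x.neutralSet G) (hτ : τ ^ n = 1) :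
    (σ ^ n).left (IsLocalRing.closedPoint K) ∈ SGA3x.neutralSet G := by
  rw [← ptv_toMk] at h ⊢
  rw [H8Grp.mem_neutralSet_iff] at h ⊢
  rw [MonObj.comp_mul, GrpObj.comp_inv] at h
  rw [MonObj.comp_pow]
  have hτ' : (toMk ω ≫ τ) ^ n = 1 := by rw [← MonObj.comp_pow, hτ, MonObj.comp_one]
  have h1 := ratv_mul_mem (toMk ω ≫ τ) h
  rw [inv_mul_cancel_right, _root_.one_mul] at h1
  have key : ∀ υ : fld ω ⟶ G, ((𝟙 (Red.bc ω G)) ^ n).left.base (ratv υ) = ratv (υ ^ n) := fun υ => by
    show (SGA3cLib.BCPoints.pt ω G (𝟙_ _) υ ≫ (𝟙 (Red.bc ω G)) ^ n).left.base _ = _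
    rw [MonObj.comp_pow, Category.comp_id]
    have e : SGA3cLib.BCPoints.pt ω G (𝟙_ _) (υ ^ n) = SGA3cLib.BCPoints.pt ω G (𝟙_ _) υ ^ n :=
      map_pow (MonoidHom.mk' (SGA3cLib.BCPoints.pt ω G (𝟙_ (Over (Spec (CommRingCat.of K)))))
        (SGA3cLib.BCPoints.pt_mul ω)) υ n
    rw [ratv, e]
  have h2 := ((𝟙 (Red.bc ω G)) ^ n).left.continuous.image_connectedComponent_subset _ ⟨_, h1, rfl⟩
  rw [key, key, hτ'] at h2
  exact h2

end Groth.Agent.WeilComp27
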