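import Groth.Prelude.Def_WeilRes
import Mathlib

/-!
# Points of a Weil restriction with values in algebras over the residue field
-/

set_option autoImplicit false
set_option linter.all false
set_option backward.isDefEq.respectTransparency false
set_option backward.isDefEq.respectTransparency.types false

universe u

open CategoryTheory CategoryTheory.Limits AlgebraicGeometry TensorProduct

noncomputable section

namespace Groth.Agent.WeilComp27

variable {R R' : Type u} [CommRing R] [CommRing R'] [Algebra R R']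

variable (R) in
/-- The spectrum of an algebra over the base. -/
def T (A : Type u) [CommRing A] [Algebra R A] : Over (Spec (CommRingCat.of R)) :=
  Over.mk (Spec.map (CommRingCat.ofHom (algebraMap R A)))

/-- The map of spectra of an algebra map. -/
def Tmap {A A' : Type u} [CommRing A] [Algebra R A] [CommRing A'] [Algebra R A'] (α : A →ₐ[R] A') :
    T R A' ⟶ T R A :=
  Over.homMk (Spec.map (CommRingCat.ofHom α.toRingHom)) (by
    show Spec.map _ ≫ Spec.map _ = Spec.map _
    rw [← Spec.map_comp, ← CommRingCat.ofHom_comp, show α.toRingHom.comp (algebraMap R A) = algebraMap R A' from RingHom.ext α.commutes])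

variable (R') in
/-- The structure map. -/
abbrev str (R : Type u) [CommRing R] [Algebra R R'] : Spec (CommRingCat.of R') ⟶ Spec (CommRingCat.of R) :=
  Spec.map (CommRingCat.ofHom (algebraMap R R'))

variable (R') in
/-- The base change of a spectrum. -/
def sp (A : Type u) [CommRing A] [Algebra R A] :
    Spec (CommRingCat.of (R' ⊗[R] A)) ⟶ (Red.bc (str R' R) (T R A)).left :=
  (pullbackSpecIso R R' A).inv ≫ (pullbackSymmetry _ _).hom

instance (A : Type u) [CommRing A] [Algebra R A] : IsIso (sp R' (R := R) A) := by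
  unfold sp
  infer_instance

theorem sp_snd (A : Type u) [CommRing A] [Algebra R A] :
    sp R' (R := R) A ≫ (Red.bc (str R' R) (T R A)).hom =
      Spec.map (CommRingCat.ofHom (algebraMap R' (R' ⊗[R] A))) := by
  show ((pullbackSpecIso R R' A).inv ≫ (pullbackSymmetry _ _).hom) ≫ pullback.snd _ _ = _
  rw [Category.assoc]
  erw [pullbackSymmetry_hom_comp_snd, pullbackSpecIso_inv_fst']

theorem sp_fst (A : Type u) [CommRing A] [Algebra R A] :
    sp R' (R := R) A ≫ pullback.fst (T R A).hom (str R' R) =
      Spec.map (CommRingCat.ofHom (Algebra.TensorProduct.includeRight : A →ₐ[R] R' ⊗[R] A).toRingHom) := by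
  show ((pullbackSpecIso R R' A).inv ≫ (pullbackSymmetry _ _).hom) ≫ pullback.fst _ _ = _
  rw [Category.assoc]
  erw [pullbackSymmetry_hom_comp_fst, pullbackSpecIso_inv_snd]
  rfl

theorem sp_natural {A A' : Type u} [CommRing A] [Algebra R A] [CommRing A'] [Algebra R A'] (α : A →ₐ[R] A') :
    Spec.map (CommRingCat.ofHom (Algebra.TensorProduct.map (AlgHom.id R' R') α).toRingHom) ≫ sp R' A =
      sp R' A' ≫ ((Over.pullback (str R' R)).map (Tmap α)).left := by
  have e1 : ((Over.pullback (str R' R)).map (Tmap α)).left ≫ pullback.fst (T R A).hom (str R' R) =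
      pullback.fst (T R A').hom (str R' R) ≫ (Tmap α).left := pullback.lift_fst _ _ _
  have e2 : ((Over.pullback (str R' R)).map (Tmap α)).left ≫ pullback.snd (T R A).hom (str R' R) =
      pullback.snd (T R A').hom (str R' R) := pullback.lift_snd _ _ _
  apply pullback.hom_ext
  · rw [Category.assoc, Category.assoc, e1, ← Category.assoc (sp R' A')]
    erw [sp_fst, sp_fst]
    show Spec.map _ ≫ Spec.map _ = Spec.map _ ≫ Spec.map _
    rw [← Spec.map_comp, ← Spec.map_comp]
    congr 1
  · rw [Category.assoc, Category.assoc, e2]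
    erw [sp_snd, sp_snd]
    rw [← Spec.map_comp]
    congr 1
    ext r
    simp

variable {N' : Over (Spec (CommRingCat.of R'))} {W : Over (Spec (CommRingCat.of R))}
  {q : Red.bc (str R' R) W ⟶ N'}

/-- The sections over an affine open as an algebra. -/
@[reducible] def secAlg (V : N'.left.Opens) : Algebra R' Γ(N'.left, V) :=
  ((Scheme.ΓSpecIso (CommRingCat.of R')).inv ≫ N'.hom.appLE ⊤ V le_top).hom.toAlgebra

theorem fromSpec_hom {V : N'.left.Opens} (hV : IsAffineOpen V) :
    hV.fromSpec ≫ N'.hom = letI := secAlg V; Spec.map (CommRingCat.ofHom (algebraMap R' Γ(N'.left, V))) := by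
  letI := secAlg V
  rw [show CommRingCat.ofHom (algebraMap R' Γ(N'.left, V)) =
    (Scheme.ΓSpecIso (CommRingCat.of R')).inv ≫ N'.hom.appLE ⊤ V le_top from rfl, Spec.map_comp]
  rw [← IsAffineOpen.SpecMap_appLE_fromSpec N'.hom (isAffineOpen_top _) hV le_top, IsAffineOpen.fromSpec_top,
    Scheme.isoSpec_Spec_inv]

theorem formallySmooth_sec [Smooth N'.hom] {V : N'.left.Opens} (hV : IsAffineOpen V) :
    letI := secAlg V; Algebra.FormallySmooth R' Γ(N'.left, V) ∧ Algebra.FiniteType R' Γ(N'.left, V) := by
  letI := secAlg V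
  have h := N'.hom.smooth_appLE (isAffineOpen_top _) hV le_top
  have h2 : (algebraMap R' Γ(N'.left, V)).Smooth :=
    RingHom.Smooth.respectsIso.2 _ (Scheme.ΓSpecIso (CommRingCat.of R')).commRingCatIsoToRingEquiv.symm h
  haveI := RingHom.smooth_algebraMap.1 h2
  exact ⟨inferInstance, inferInstance⟩

variable (q) in
/-- The image of a point of the base change of the test object. -/
def img (A : Type u) [CommRing A] [Algebra R A] (g : T R A ⟶ W) : Spec (CommRingCat.of (R' ⊗[R] A)) ⟶ N'.left :=
  sp R' A ≫ (WeilRes.restr (str R' R) q (T R A) g).left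

theorem img_Tmap {A A' : Type u} [CommRing A] [Algebra R A] [CommRing A'] [Algebra R A'] (α : A →ₐ[R] A')
    (g : T R A ⟶ W) :
    img q A' (Tmap α ≫ g) =
      Spec.map (CommRingCat.ofHom (Algebra.TensorProduct.map (AlgHom.id R' R') α).toRingHom) ≫ img q A g := by
  unfold img
  rw [WeilRes.restr_comp, Over.comp_left, ← Category.assoc, ← Category.assoc, sp_natural]

theorem img_injective (hW : WeilRes.IsWeilRes (str R' R) N' W q) {A : Type u} [CommRing A] [Algebra R A]
    {g g' : T R A ⟶ W} (h : img q A g = img q A g') : g = g' := by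
  refine (hW (T R A)).1 (Over.OverMorphism.ext ?_)
  exact (cancel_epi (sp R' A)).1 h

/-- The point given by a map of algebras. -/
theorem exists_point (hW : WeilRes.IsWeilRes (str R' R) N' W q) {V : N'.left.Opens} (hV : IsAffineOpen V)
    {A : Type u} [CommRing A] [Algebra R A] :
    letI := secAlg V
    ∀ ψ : Γ(N'.left, V) →ₐ[R'] R' ⊗[R] A, ∃ g : T R A ⟶ W,
      img q A g = Spec.map (CommRingCat.ofHom ψ.toRingHom) ≫ hV.fromSpec := by
  letI := secAlg V
  intro ψ
  let m : Red.bc (str R' R) (T R A) ⟶ N' :=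
    Over.homMk (inv (sp R' A) ≫ Spec.map (CommRingCat.ofHom ψ.toRingHom) ≫ hV.fromSpec) (by
      rw [Category.assoc, Category.assoc, fromSpec_hom, IsIso.inv_comp_eq, sp_snd, ← Spec.map_comp,
        ← CommRingCat.ofHom_comp,
        show ψ.toRingHom.comp (algebraMap R' Γ(N'.left, V)) = algebraMap R' (R' ⊗[R] A) from RingHom.ext ψ.commutes])
  obtain ⟨g, hg⟩ := (hW (T R A)).2 m
  refine ⟨g, ?_⟩
  unfold img
  rw [hg]
  show sp R' A ≫ inv (sp R' A) ≫ _ = _
  rw [IsIso.hom_inv_id_assoc]

/-- A point landing in an affine open is given by a map of algebras. -/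
theorem exists_algHom {V : N'.left.Opens} (hV : IsAffineOpen V) {A : Type u} [CommRing A] [Algebra R A]
    (g : T R A ⟶ W) (hg : Set.range (img q A g) ⊆ V) :
    letI := secAlg V
    ∃ ψ : Γ(N'.left, V) →ₐ[R'] R' ⊗[R] A,
      img q A g = Spec.map (CommRingCat.ofHom ψ.toRingHom) ≫ hV.fromSpec := by
  letI := secAlg V
  obtain ⟨φ, hφ⟩ := Spec.map_surjective (IsOpenImmersion.lift hV.fromSpec (img q A g)
    (by rw [hV.range_fromSpec]; exact hg))
  have hfac : Spec.map φ ≫ hV.fromSpec = img q A g := by rw [hφ, IsOpenImmersion.lift_fac]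
  have hc : CommRingCat.ofHom (algebraMap R' Γ(N'.left, V)) ≫ φ =
      CommRingCat.ofHom (algebraMap R' (R' ⊗[R] A)) := by
    refine Spec.map_injective ?_
    rw [Spec.map_comp, ← fromSpec_hom hV, ← Category.assoc, hfac, ← sp_snd]
    unfold img
    rw [Category.assoc, Over.w]
  exact ⟨{ φ.hom with commutes' := fun r => ConcreteCategory.congr_hom hc r }, hfac.symm⟩

section Residue

variable [IsLocalRing R] [IsLocalRing R']

/-- An element of the tensor product with an algebra killed by the maximal ideal is, up to the ideal of the maximal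
ideal, constant. -/
theorem sub_mem {θ : R' →+* IsLocalRing.ResidueField R} (hθ : ∀ r, θ (algebraMap R R' r) = IsLocalRing.residue R r)
    (hker : RingHom.ker θ = IsLocalRing.maximalIdeal R') {A : Type u} [CommRing A] [Algebra R A] [Algebra R' A]
    [IsScalarTower R R' A] (hA : ∀ r ∈ IsLocalRing.maximalIdeal R', algebraMap R' A r = 0) (x : R' ⊗[R] A) :
    x - (1 : R') ⊗ₜ[R] Algebra.TensorProduct.lift (Algebra.ofId R' A) (AlgHom.id R A) (fun _ _ => Commute.all _ _) x ∈
      (IsLocalRing.maximalIdeal R').map (algebraMap R' (R' ⊗[R] A)) := by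
  induction x using TensorProduct.induction_on with
  | zero => simp
  | tmul r a =>
    obtain ⟨r₀, hr₀⟩ := IsLocalRing.residue_surjective (θ r)
    have hm : r - algebraMap R R' r₀ ∈ IsLocalRing.maximalIdeal R' := by
      rw [← hker, RingHom.mem_ker, map_sub, hθ, hr₀, sub_self]
    have e : algebraMap R' A r * a = r₀ • a := by
      rw [Algebra.smul_def, IsScalarTower.algebraMap_apply R R' A]
      congr 1
      exact sub_eq_zero.1 (by rw [← map_sub]; exact hA _ hm)
    rw [Algebra.TensorProduct.lift_tmul]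
    show r ⊗ₜ[R] a - (1 : R') ⊗ₜ[R] (algebraMap R' A r * a) ∈ _
    rw [e, ← TensorProduct.smul_tmul, ← Algebra.algebraMap_eq_smul_one, ← TensorProduct.sub_tmul]
    rw [show (r - algebraMap R R' r₀) ⊗ₜ[R] a =
      algebraMap R' (R' ⊗[R] A) (r - algebraMap R R' r₀) * ((1 : R') ⊗ₜ[R] a) by
        rw [Algebra.TensorProduct.algebraMap_apply, Algebra.TensorProduct.tmul_mul_tmul, _root_.mul_one, _root_.one_mul]
        rfl]
    exact Ideal.mul_mem_right _ _ (Ideal.mem_map_of_mem _ hm)
  | add x y hx hy =>
    rw [map_add, TensorProduct.tmul_add, add_sub_add_comm]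
    exact add_mem hx hy

/-- The kernel of the reduction is nilpotent. -/
theorem isNilpotent_ker {θ : R' →+* IsLocalRing.ResidueField R}
    (hθ : ∀ r, θ (algebraMap R R' r) = IsLocalRing.residue R r)
    (hker : RingHom.ker θ = IsLocalRing.maximalIdeal R') {e : ℕ}
    (he : IsLocalRing.maximalIdeal R' ^ e ≤ (IsLocalRing.maximalIdeal R).map (algebraMap R R'))
    {A : Type u} [CommRing A] [Algebra R A] [Algebra R' A] [IsScalarTower R R' A]
    (hA : ∀ r ∈ IsLocalRing.maximalIdeal R', algebraMap R' A r = 0) :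
    IsNilpotent (RingHom.ker ((Algebra.TensorProduct.lift (Algebra.ofId R' A) (AlgHom.id R A)
      (fun _ _ => Commute.all _ _) : R' ⊗[R] A →ₐ[R'] A) : R' ⊗[R] A →+* A)) := by
  have hle : RingHom.ker ((Algebra.TensorProduct.lift (Algebra.ofId R' A) (AlgHom.id R A)
      (fun _ _ => Commute.all _ _) : R' ⊗[R] A →ₐ[R'] A) : R' ⊗[R] A →+* A) ≤
      (IsLocalRing.maximalIdeal R').map (algebraMap R' (R' ⊗[R] A)) := fun x hx => by
    have h := sub_mem hθ hker hA x
    rwa [show Algebra.TensorProduct.lift (Algebra.ofId R' A) (AlgHom.id R A) (fun _ _ => Commute.all _ _) x = 0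
      from hx, TensorProduct.tmul_zero, sub_zero] at h
  refine ⟨e, eq_bot_iff.2 ((Ideal.pow_right_mono hle e).trans ?_)⟩
  rw [← Ideal.map_pow]
  refine (Ideal.map_mono he).trans ?_
  rw [Ideal.map_map, ← IsScalarTower.algebraMap_eq R R' (R' ⊗[R] A), Ideal.map_le_iff_le_comap]
  intro r hr
  rw [Ideal.mem_comap, Submodule.mem_bot]
  have h0 : algebraMap R A r = 0 := by
    rw [IsScalarTower.algebraMap_apply R R' A]
    refine hA _ ?_
    rw [← hker, RingHom.mem_ker, hθ]
    exact Ideal.Quotient.eq_zero_iff_mem.2 hr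
  rw [IsScalarTower.algebraMap_apply R R' (R' ⊗[R] A), Algebra.TensorProduct.algebraMap_apply]
  show algebraMap R R' r ⊗ₜ[R] (1 : A) = 0
  rw [Algebra.algebraMap_eq_smul_one, TensorProduct.smul_tmul, ← Algebra.algebraMap_eq_smul_one, h0,
    TensorProduct.tmul_zero]

end Residue

end Groth.Agent.WeilComp27
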