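import Groth.Agent.WeilComp27.Points
import Groth.Agent.NeronLib.NormalSmooth
import Groth.Agent.Et18.NeronProper

/-!
# Components of the special fibre of a smooth scheme and families of points in them
-/

set_option autoImplicit false
set_option linter.all false
set_option backward.isDefEq.respectTransparency false
set_option backward.isDefEq.respectTransparency.types false
set_option maxHeartbeats 1000000

universe u

open CategoryTheory CategoryTheory.Limits AlgebraicGeometry TensorProduct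

noncomputable section

namespace Groth.Agent.WeilComp27

variable {R' : Type u} [CommRing R'] [IsLocalRing R'] (N' : Over (Spec (CommRingCat.of R'))) [Smooth N'.hom]

/-- Components of the special fibre are irreducible and relatively open. -/
theorem component_spec (y : N'.left) (hy : y ∈ fib R' N') :
    IsIrreducible (connectedComponentIn (fib R' N') y) ∧
      ∃ O : Set N'.left, IsOpen O ∧ O ∩ fib R' N' = connectedComponentIn (fib R' N') y := by
  let s : Spec (CommRingCat.of R') := IsLocalRing.closedPoint R'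
  let F := N'.hom.fiber s
  let p := N'.hom.fiberToSpecResidueField s
  haveI : Smooth p := inferInstanceAs (Smooth (pullback.snd N'.hom ((Spec (CommRingCat.of R')).fromSpecResidueField s)))
  haveI : IsLocallyNoetherian F := LocallyOfFiniteType.isLocallyNoetherian p
  have hn : Pi1.IsNormalScheme F := NeronLib.isNormalScheme_of_smooth p
    (Et18.NeronProper.isNormalScheme_Spec ((Spec (CommRingCat.of R')).residueField s))
  let h : F ≃ₜ ↥(fib R' N') := N'.hom.fiberHomeo s
  let a : F := h.symm ⟨y, hy⟩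
  have hC : irreducibleComponent a ∈ irreducibleComponents F :=
    irreducibleComponent_mem_irreducibleComponents a
  have hopen : IsOpen (irreducibleComponent a) := NeronLib.isOpen_component_of_normal hn hC
  have hcc : connectedComponent a = irreducibleComponent a :=
    (IsClopen.connectedComponent_subset ⟨isClosed_irreducibleComponent, hopen⟩ mem_irreducibleComponent).antisymm
      (isIrreducible_irreducibleComponent.isPreirreducible.isPreconnected.subset_connectedComponent
        mem_irreducibleComponent)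
  have himg : h '' connectedComponent a = connectedComponent (h a) :=
    (h.continuous.image_connectedComponent_subset a).antisymm fun b hb => ⟨h.symm b, by
      have := h.symm.continuous.image_connectedComponent_subset (h a) ⟨b, hb, rfl⟩
      rwa [h.symm_apply_apply] at this, h.apply_symm_apply b⟩
  have he : connectedComponentIn (fib R' N') y = (fun b => (h b).1) '' irreducibleComponent a := by
    rw [← hcc, connectedComponentIn_eq_image hy, ← Set.image_image Subtype.val h, himg,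
      Homeomorph.apply_symm_apply]
  refine ⟨he ▸ isIrreducible_irreducibleComponent.image _ (continuous_subtype_val.comp h.continuous).continuousOn, ?_⟩
  obtain ⟨O, hO, hO'⟩ := isOpen_induced_iff.1 (h.isOpenMap _ hopen)
  refine ⟨O, hO, ?_⟩
  rw [he, ← Set.image_image Subtype.val h, ← hO', Subtype.image_preimage_coe, Set.inter_comm]

/-- A small affine neighbourhood of a point of the special fibre. -/
theorem exists_chart (y : N'.left) (hy : y ∈ fib R' N') :
    ∃ V : N'.left.Opens, IsAffineOpen V ∧ y ∈ V ∧ IsIrreducible ((V : Set N'.left) ∩ fib R' N') ∧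
      (V : Set N'.left) ∩ fib R' N' ⊆ connectedComponentIn (fib R' N') y := by
  obtain ⟨hirr, O, hO, hOe⟩ := component_spec N' y hy
  have hyO : y ∈ O := (hOe.ge (mem_connectedComponentIn hy)).1
  obtain ⟨V, hV, hyV, hVO⟩ := exists_isAffineOpen_mem_and_subset (x := y) (U := ⟨O, hO⟩) hyO
  have hsub : (V : Set N'.left) ∩ fib R' N' ⊆ connectedComponentIn (fib R' N') y := fun z hz =>
    hOe.le ⟨hVO hz.1, hz.2⟩
  refine ⟨V, hV, hyV, ?_, hsub⟩
  have e : (V : Set N'.left) ∩ fib R' N' = connectedComponentIn (fib R' N') y ∩ V :=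
    Set.Subset.antisymm (fun z hz => ⟨hsub hz, hz.1⟩) fun z hz => ⟨hz.2, connectedComponentIn_subset _ _ hz.1⟩
  rw [e]
  refine ⟨⟨y, mem_connectedComponentIn hy, hyV⟩, fun u v hu hv hmu hmv => ?_⟩
  obtain ⟨z, ⟨hzC, hzV⟩, hzu⟩ := hmu
  obtain ⟨w, ⟨hwC, hwV⟩, hwv⟩ := hmv
  obtain ⟨x, hxC, ⟨hxV, hxu⟩, -, hxv⟩ := hirr.isPreirreducible (V ∩ u) (V ∩ v) (V.isOpen.inter hu) (V.isOpen.inter hv)
    ⟨z, hzC, hzV, hzu⟩ ⟨w, hwC, hwV, hwv⟩
  exact ⟨x, ⟨hxC, hxV⟩, hxu, hxv⟩

variable {R : Type u} [CommRing R] [IsLocalRing R] [Algebra R R'] [IsAlgClosed (IsLocalRing.ResidueField R)]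
  (D : Red R R') {W : Over (Spec (CommRingCat.of R))} {q : _root_.Red.bc (str R' R) W ⟶ N'}

local notation3 "κ" => IsLocalRing.ResidueField R

variable {N'}

/-- A connected family of points whose reductions are dense in an irreducible affine chart. -/
theorem exists_family (hW : WeilRes.IsWeilRes (str R' R) N' W q) {V : N'.left.Opens} (hV : IsAffineOpen V)
    (hirr : IsIrreducible ((V : Set N'.left) ∩ fib R' N')) :
    ∃ S : Set W.left, _root_.IsPreconnected S ∧ S ⊆ fib R W ∧
      (∀ O : Set N'.left, IsOpen O → (((V : Set N'.left) ∩ fib R' N') ∩ O).Nonempty →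
        ∃ x : T R κ ⟶ W, loc x ∈ S ∧ rd D q x ∈ ((V : Set N'.left) ∩ fib R' N') ∩ O) ∧
      (∀ x : T R κ ⟶ W, rd D q x ∈ (V : Set N'.left) → ∃ y : T R κ ⟶ W, loc y ∈ S ∧ rd D q y = rd D q x) ∧
      letI := secAlg V; letI := D.alg
      ∀ φ : Γ(N'.left, V) →ₐ[R'] κ, ∃ y : T R κ ⟶ W,
        rd D q y = hV.fromSpec (Spec.map (CommRingCat.ofHom φ.toRingHom) (IsLocalRing.closedPoint κ)) := by
  letI := secAlg V
  obtain ⟨hfs, hft⟩ := formallySmooth_sec (N' := N') hV
  haveI := hfs
  haveI := hft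
  letI := D.alg
  haveI := D.tower
  let I : Ideal Γ(N'.left, V) := (IsLocalRing.maximalIdeal R').map (algebraMap R' Γ(N'.left, V))
  let A : Type u := Γ(N'.left, V) ⧸ I
  letI : Algebra R A := ((algebraMap R' A).comp (algebraMap R R')).toAlgebra
  haveI : IsScalarTower R R' A := IsScalarTower.of_algebraMap_eq fun r => rfl
  have hA : ∀ r ∈ IsLocalRing.maximalIdeal R', algebraMap R' A r = 0 := fun r hr =>
    Ideal.Quotient.eq_zero_iff_mem.2 (Ideal.mem_map_of_mem _ hr)
  let π : R' ⊗[R] A →ₐ[R'] A :=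
    Algebra.TensorProduct.lift (Algebra.ofId R' A) (AlgHom.id R A) (fun _ _ => Commute.all _ _)
  have hπ : Function.Surjective π := fun a => ⟨(1 : R') ⊗ₜ a, by simp [π]⟩
  let Ψ := Algebra.FormallySmooth.liftOfSurjective (Ideal.Quotient.mkₐ R' I) π hπ
    (isNilpotent_ker D.hθ D.hker D.he hA)
  have hΨ : π.comp Ψ = Ideal.Quotient.mkₐ R' I := Algebra.FormallySmooth.comp_liftOfSurjective _ _ _ _
  obtain ⟨g, hg⟩ := exists_point hW hV Ψ
  -- the spectrum of `A` is the chart
  let j : Spec (CommRingCat.of A) ⟶ N'.left :=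
    Spec.map (CommRingCat.ofHom (Ideal.Quotient.mk I)) ≫ hV.fromSpec
  have hmem : ∀ p : Spec Γ(N'.left, V), hV.fromSpec p ∈ fib R' N' ↔ I ≤ p.asIdeal := by
    intro p
    show (hV.fromSpec ≫ N'.hom) p = IsLocalRing.closedPoint R' ↔ _
    rw [fromSpec_hom hV, Ideal.map_le_iff_le_comap]
    refine ⟨fun h => (congrArg PrimeSpectrum.asIdeal h).ge, fun h => PrimeSpectrum.ext ?_⟩
    exact ((IsLocalRing.maximalIdeal.isMaximal R').eq_of_le
      (Ideal.IsPrime.comap (algebraMap R' Γ(N'.left, V)) (hK := p.isPrime)).ne_top h).symm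
  have hjrange : Set.range j.base = (V : Set N'.left) ∩ fib R' N' := by
    ext z
    constructor
    · rintro ⟨P, rfl⟩
      refine ⟨?_, (hmem _).2 ?_⟩
      · show hV.fromSpec _ ∈ (V : Set N'.left)
        rw [← hV.range_fromSpec]; exact ⟨_, rfl⟩
      · intro v hv
        show Ideal.Quotient.mk I v ∈ P.asIdeal
        rw [Ideal.Quotient.eq_zero_iff_mem.2 hv]; exact P.asIdeal.zero_mem
    · rintro ⟨hzV, hzf⟩
      obtain ⟨p, rfl⟩ : z ∈ Set.range hV.fromSpec.base := by rw [hV.range_fromSpec]; exact hzV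
      have hp : p ∈ Set.range (PrimeSpectrum.comap (Ideal.Quotient.mk I)) := by
        rw [range_comap_of_surjective _ _ Ideal.Quotient.mk_surjective, Ideal.mk_ker]
        exact (hmem p).1 hzf
      obtain ⟨P, hP⟩ := hp
      exact ⟨P, congrArg hV.fromSpec.base hP⟩
  have hjind : Topology.IsInducing j.base :=
    hV.fromSpec.isOpenEmbedding.isInducing.comp
      (PrimeSpectrum.isClosedEmbedding_comap_of_surjective _ _ Ideal.Quotient.mk_surjective).isInducing
  haveI : PreconnectedSpace (PrimeSpectrum A) := by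
    haveI : PreirreducibleSpace (PrimeSpectrum A) := ⟨fun U U' hU hU' hne₁ hne₂ => by
      obtain ⟨a, -, ha⟩ := hne₁
      obtain ⟨b, -, hb⟩ := hne₂
      obtain ⟨O₁, hO₁, rfl⟩ := hjind.isOpen_iff.1 hU
      obtain ⟨O₂, hO₂, rfl⟩ := hjind.isOpen_iff.1 hU'
      obtain ⟨z, hz, h1, h2⟩ := hirr.isPreirreducible O₁ O₂ hO₁ hO₂
        ⟨j a, hjrange ▸ ⟨a, rfl⟩, ha⟩ ⟨j b, hjrange ▸ ⟨b, rfl⟩, hb⟩
      obtain ⟨P, rfl⟩ := hjrange.ge hz
      exact ⟨P, trivial, h1, h2⟩⟩
    infer_instance
  haveI : PreconnectedSpace ↥(T R A).left := ‹PreconnectedSpace (PrimeSpectrum A)›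
  refine ⟨Set.range g.left.base, isPreconnected_range g.left.continuous,
    fun _ ⟨P, hP⟩ => hP ▸ mem_fib D hA g P, fun O hO hne => ?_, fun x hx => ?_, fun φ => ?_⟩
  pick_goal 3
  · have hI : ∀ v ∈ I, φ v = 0 := by
      intro v hv
      have : I ≤ RingHom.ker φ.toRingHom := Ideal.map_le_iff_le_comap.2 fun r hr => by
        show φ (algebraMap R' _ r) = 0
        rw [AlgHom.commutes]; exact D.kills r hr
      exact this hv
    let β : A →ₐ[R'] κ := Ideal.Quotient.liftₐ I φ hI
    refine ⟨Tmap (β.restrictScalars R) ≫ g, ?_⟩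
    refine (rd_Tmap D hV (g := g) Ψ hg β).trans ?_
    have e : (β.comp π).comp Ψ = φ := by
      rw [AlgHom.comp_assoc, hΨ]
      exact Ideal.Quotient.liftₐ_comp I φ hI
    show hV.fromSpec (Spec.map (CommRingCat.ofHom ((β.comp π).comp Ψ).toRingHom) _) = _
    rw [e]
  pick_goal 2
  · have hr : Set.range (img q κ x) ⊆ V := by
      rintro _ ⟨Q, rfl⟩
      rw [D.eq_pt Q]; exact hx
    obtain ⟨ψ, hψ⟩ := exists_algHom hV x hr
    let πκ : R' ⊗[R] κ →ₐ[R'] κ :=
      Algebra.TensorProduct.lift (Algebra.ofId R' κ) (AlgHom.id R κ) (fun _ _ => Commute.all _ _)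
    have hI : ∀ v ∈ I, πκ.comp ψ v = 0 := by
      intro v hv
      have : I ≤ RingHom.ker (πκ.comp ψ).toRingHom := Ideal.map_le_iff_le_comap.2 fun r hr => by
        show πκ.comp ψ (algebraMap R' _ r) = 0
        rw [AlgHom.commutes]; exact D.kills r hr
      exact this hv
    let β : A →ₐ[R'] κ := Ideal.Quotient.liftₐ I (πκ.comp ψ) hI
    refine ⟨Tmap (β.restrictScalars R) ≫ g, ⟨_, rfl⟩, ?_⟩
    refine (rd_Tmap D hV (g := g) Ψ hg β).trans ?_
    have e : (β.comp π).comp Ψ = πκ.comp ψ := by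
      rw [AlgHom.comp_assoc, hΨ]
      exact Ideal.Quotient.liftₐ_comp I (πκ.comp ψ) hI
    show hV.fromSpec (Spec.map (CommRingCat.ofHom ((β.comp π).comp Ψ).toRingHom) _) = _
    rw [e]
    unfold rd Red.pt
    rw [hψ, ← Scheme.Hom.comp_apply (Spec.map (CommRingCat.ofHom πκ.toRingHom)), ← Category.assoc, ← Spec.map_comp,
      Scheme.Hom.comp_apply]
    rfl
  -- the algebra over the residue field
  have hk : ∀ r ∈ RingHom.ker D.θ, algebraMap R' A r = 0 := fun r hr => hA r (by rw [← D.hker]; exact hr)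
  letI : Algebra κ A := ((D.θ).liftOfSurjective D.surjective ⟨algebraMap R' A, hk⟩).toAlgebra
  haveI : IsScalarTower R' κ A := IsScalarTower.of_algebraMap_eq fun r =>
    (RingHom.liftOfRightInverse_comp_apply _ _ _ ⟨algebraMap R' A, hk⟩ r).symm
  haveI : Algebra.FiniteType R' A :=
    Algebra.FiniteType.of_surjective (Ideal.Quotient.mkₐ R' I) Ideal.Quotient.mk_surjective
  haveI : Algebra.FiniteType κ A := Algebra.FiniteType.of_restrictScalars_finiteType R' κ A
  haveI : IsJacobsonRing A := isJacobsonRing_of_finiteType (A := κ) (B := A)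
  obtain ⟨z, hz, hzO⟩ := hne
  obtain ⟨P, rfl⟩ := hjrange.ge hz
  obtain ⟨b, ⟨a, rfl⟩, hPa, haO⟩ := PrimeSpectrum.isTopologicalBasis_basic_opens.exists_subset_of_mem_open
    (show P ∈ j.base ⁻¹' O from hzO) (hO.preimage j.continuous)
  obtain ⟨m, hm, hma⟩ : ∃ m : Ideal A, m.IsMaximal ∧ a ∉ m := by
    by_contra hc
    push Not at hc
    have hj : a ∈ (⊥ : Ideal A).jacobson := Ideal.mem_sInf.2 fun J hJ => hc J hJ.2
    rw [← Ideal.radical_eq_jacobson] at hj
    obtain ⟨n, hn⟩ := hj
    exact hPa (P.isPrime.mem_of_pow_mem n (by rw [Ideal.mem_bot.1 hn]; exact P.asIdeal.zero_mem))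
  haveI := hm
  letI : Field (A ⧸ m) := Ideal.Quotient.field m
  haveI : Module.Finite κ (A ⧸ m) := finite_of_finite_type_of_isJacobsonRing κ (A ⧸ m)
  let e : κ ≃ₐ[κ] A ⧸ m := AlgEquiv.ofBijective (Algebra.ofId κ (A ⧸ m))
    (IsAlgClosed.algebraMap_bijective_of_isIntegral (k := κ) (K := A ⧸ m))
  let α₀ : A →ₐ[κ] κ := e.symm.toAlgHom.comp (Ideal.Quotient.mkₐ κ m)
  let α : A →ₐ[R'] κ := α₀.restrictScalars R'
  have hα : ∀ v, α v = 0 ↔ v ∈ m := fun v => by
    show e.symm (Ideal.Quotient.mk m v) = 0 ↔ _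
    rw [map_eq_zero_iff _ e.symm.injective, Ideal.Quotient.eq_zero_iff_mem]
  let P₀ : Spec (CommRingCat.of A) := ⟨m, hm.isPrime⟩
  refine ⟨Tmap (α.restrictScalars R) ≫ g, ⟨_, rfl⟩, ?_⟩
  have hrd : rd D q (Tmap (α.restrictScalars R) ≫ g) = j P₀ := by
    refine (rd_Tmap D hV (g := g) Ψ hg α).trans ?_
    show hV.fromSpec _ = hV.fromSpec _
    congr 1
    refine PrimeSpectrum.ext ?_
    ext v
    show α (π (Ψ v)) ∈ IsLocalRing.maximalIdeal κ ↔ Ideal.Quotient.mk I v ∈ m
    rw [show π (Ψ v) = Ideal.Quotient.mk I v from DFunLike.congr_fun hΨ v,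
      IsLocalRing.isField_iff_maximalIdeal_eq.1 (Field.toIsField κ), Ideal.mem_bot, hα]
  rw [hrd]
  exact ⟨hjrange.le ⟨P₀, rfl⟩, haO hma⟩

end Groth.Agent.WeilComp27
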