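import Groth.Agent.WeilComp27.Base

/-!
# Points of the special fibre of a Weil restriction with the same reduction lie in one component
-/

set_option autoImplicit false
set_option linter.all false
set_option backward.isDefEq.respectTransparency false
set_option backward.isDefEq.respectTransparency.types false
set_option maxHeartbeats 1000000

universe u

open CategoryTheory CategoryTheory.Limits AlgebraicGeometry TensorProduct Polynomial

noncomputable section

namespace Groth.Agent.WeilComp27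

variable {R R' : Type u} [CommRing R] [CommRing R'] [Algebra R R'] [IsLocalRing R] [IsLocalRing R']

/-- The data of the reduction. -/
structure Red (R R' : Type u) [CommRing R] [CommRing R'] [Algebra R R'] [IsLocalRing R] [IsLocalRing R'] where
  θ : R' →+* IsLocalRing.ResidueField R
  hθ : ∀ r, θ (algebraMap R R' r) = IsLocalRing.residue R r
  hker : RingHom.ker θ = IsLocalRing.maximalIdeal R'
  e : ℕ
  he : IsLocalRing.maximalIdeal R' ^ e ≤ (IsLocalRing.maximalIdeal R).map (algebraMap R R')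

variable (D : Red R R')

local notation3 "κ" => IsLocalRing.ResidueField R

theorem Red.surjective : Function.Surjective D.θ := fun x => by
  obtain ⟨r, hr⟩ := IsLocalRing.residue_surjective x
  exact ⟨algebraMap R R' r, (D.hθ r).trans hr⟩

/-- The residue field as an algebra over the extension. -/
@[reducible] def Red.alg : Algebra R' κ := D.θ.toAlgebra

theorem Red.tower : letI := D.alg; IsScalarTower R R' κ :=
  letI := D.alg
  IsScalarTower.of_algebraMap_eq fun r => (D.hθ r).symm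

theorem Red.kills : letI := D.alg; ∀ r ∈ IsLocalRing.maximalIdeal R', algebraMap R' κ r = 0 := fun r hr => by
  rw [← D.hker] at hr
  exact hr

include D in
theorem subsingleton_spec : Subsingleton (PrimeSpectrum (R' ⊗[R] κ)) := by
  letI := D.alg
  haveI := D.tower
  let π : R' ⊗[R] κ →ₐ[R'] κ :=
    Algebra.TensorProduct.lift (Algebra.ofId R' κ) (AlgHom.id R κ) (fun _ _ => Commute.all _ _)
  have hπ : Function.Surjective π := fun a => ⟨(1 : R') ⊗ₜ a, by simp [π]⟩
  obtain ⟨n, hn⟩ := isNilpotent_ker D.hθ D.hker D.he (A := κ) D.kills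
  have key : ∀ P : PrimeSpectrum (R' ⊗[R] κ), P.asIdeal = RingHom.ker (π : R' ⊗[R] κ →+* κ) := fun P =>
    ((RingHom.ker_isMaximal_of_surjective (π : R' ⊗[R] κ →+* κ) hπ).eq_of_le P.isPrime.ne_top
      (P.isPrime.le_of_pow_le (hn.le.trans bot_le))).symm
  exact ⟨fun P P' => PrimeSpectrum.ext ((key P).trans (key P').symm)⟩

/-- The point of the spectrum. -/
def Red.pt : Spec (CommRingCat.of (R' ⊗[R] κ)) :=
  letI := D.alg
  haveI := D.tower
  Spec.map (CommRingCat.ofHom (Algebra.TensorProduct.lift (Algebra.ofId R' κ) (AlgHom.id R κ)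
    (fun _ _ => Commute.all _ _) : R' ⊗[R] κ →ₐ[R'] κ).toRingHom) (IsLocalRing.closedPoint κ)

theorem Red.eq_pt (Q : Spec (CommRingCat.of (R' ⊗[R] κ))) : Q = D.pt :=
  @Subsingleton.elim _ (subsingleton_spec D) Q D.pt

variable {N' : Over (Spec (CommRingCat.of R'))} {W : Over (Spec (CommRingCat.of R))}
  {q : _root_.Red.bc (str R' R) W ⟶ N'}

variable (q) in
/-- The reduction of a point. -/
def rd (x : T R κ ⟶ W) : N'.left := img q κ x D.pt

/-- The place of a point. -/
def loc (x : T R κ ⟶ W) : W.left := x.left (IsLocalRing.closedPoint κ)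

/-- The special fibre. -/
abbrev fib (R : Type u) [CommRing R] [IsLocalRing R] (X : Over (Spec (CommRingCat.of R))) : Set X.left :=
  X.hom.base ⁻¹' {IsLocalRing.closedPoint R}

include D in
theorem mem_fib {A : Type u} [CommRing A] [Algebra R A] [Algebra R' A] [IsScalarTower R R' A]
    (hA : ∀ r ∈ IsLocalRing.maximalIdeal R', algebraMap R' A r = 0) (g : T R A ⟶ W)
    (P : Spec (CommRingCat.of A)) : g.left P ∈ fib R W := by
  show (g.left ≫ W.hom) P = IsLocalRing.closedPoint R
  rw [Over.w g]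
  refine PrimeSpectrum.ext ((IsLocalRing.maximalIdeal.isMaximal R).eq_of_le
    (Ideal.IsPrime.comap (algebraMap R A) (hK := P.isPrime)).ne_top ?_).symm
  intro r hr
  show algebraMap R A r ∈ P.asIdeal
  rw [IsScalarTower.algebraMap_apply R R' A, hA]
  · exact P.asIdeal.zero_mem
  · rw [← D.hker, RingHom.mem_ker, D.hθ]
    exact Ideal.Quotient.eq_zero_iff_mem.2 hr

theorem loc_Tmap {A : Type u} [CommRing A] [Algebra R A] (g : T R A ⟶ W) (α : A →ₐ[R] κ) :
    loc (Tmap α ≫ g) = g.left (Spec.map (CommRingCat.ofHom α.toRingHom) (IsLocalRing.closedPoint κ)) := rfl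

include D in
/-- Two values of a family over a connected spectrum lie in one component. -/
theorem loc_connected {A : Type u} [CommRing A] [Algebra R A] [Algebra R' A] [IsScalarTower R R' A]
    (hA : ∀ r ∈ IsLocalRing.maximalIdeal R', algebraMap R' A r = 0) [PreconnectedSpace (PrimeSpectrum A)]
    (g : T R A ⟶ W) (α β : A →ₐ[R] κ) :
    loc (Tmap β ≫ g) ∈ connectedComponentIn (fib R W) (loc (Tmap α ≫ g)) := by
  haveI : PreconnectedSpace ↥(T R A).left := ‹PreconnectedSpace (PrimeSpectrum A)›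
  refine (isPreconnected_range (f := g.left.base) g.left.continuous).subset_connectedComponentIn ⟨_, rfl⟩ ?_
    ⟨_, rfl⟩
  rintro _ ⟨P, rfl⟩
  exact mem_fib D hA g P

/-- The value of a family at a point. -/
theorem rd_Tmap {A : Type u} [CommRing A] [Algebra R A] [Algebra R' A] [IsScalarTower R R' A]
    {V : N'.left.Opens} (hV : IsAffineOpen V) {g : T R A ⟶ W} :
    letI := secAlg V; letI := D.alg
    ∀ (ψ : Γ(N'.left, V) →ₐ[R'] R' ⊗[R] A) (hg : img q A g = Spec.map (CommRingCat.ofHom ψ.toRingHom) ≫ hV.fromSpec)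
      (α : A →ₐ[R'] κ),
      rd D q (Tmap (@AlgHom.restrictScalars R R' A κ _ _ _ _ _ _ _ _ _ _ D.tower α) ≫ g) = hV.fromSpec (Spec.map (CommRingCat.ofHom
        ((α.comp (Algebra.TensorProduct.lift (Algebra.ofId R' A) (AlgHom.id R A) (fun _ _ => Commute.all _ _))).comp ψ).toRingHom)
        (IsLocalRing.closedPoint κ)) := by
  letI := secAlg V
  letI := D.alg
  haveI := D.tower
  intro ψ hg α
  unfold rd Red.pt
  rw [img_Tmap, hg, ← Scheme.Hom.comp_apply, ← Category.assoc, ← Category.assoc, ← Spec.map_comp, ← Spec.map_comp,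
    Scheme.Hom.comp_apply]
  refine congrArg (fun m : Γ(N'.left, V) ⟶ CommRingCat.of κ => hV.fromSpec (Spec.map m (IsLocalRing.closedPoint κ))) ?_
  ext v
  show _ = α (Algebra.TensorProduct.lift (Algebra.ofId R' A) (AlgHom.id R A) (fun _ _ => Commute.all _ _) (ψ v))
  show Algebra.TensorProduct.lift (Algebra.ofId R' κ) (AlgHom.id R κ) (fun _ _ => Commute.all _ _)
    (Algebra.TensorProduct.map (AlgHom.id R' R') (α.restrictScalars R) (ψ v)) = _
  induction ψ v using TensorProduct.induction_on with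
  | zero => simp
  | tmul r a =>
    rw [Algebra.TensorProduct.map_tmul, Algebra.TensorProduct.lift_tmul, Algebra.TensorProduct.lift_tmul, map_mul]
    congr 1
    exact (α.commutes r).symm
  | add a b ha hb => simp [ha, hb]

variable [Smooth N'.hom]

/-- Two points with the same reduction lie in one component. -/
theorem loc_of_rd_eq (hW : WeilRes.IsWeilRes (str R' R) N' W q) (x₀ x₁ : T R κ ⟶ W)
    (h : rd D q x₀ = rd D q x₁) : loc x₁ ∈ connectedComponentIn (fib R W) (loc x₀) := by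
  obtain ⟨V, hV, hyV, -⟩ := exists_isAffineOpen_mem_and_subset (x := rd D q x₀) (U := ⊤) trivial
  letI := secAlg V
  haveI := (formallySmooth_sec hV).1
  letI := D.alg
  haveI := D.tower
  have hr : ∀ x : T R κ ⟶ W, rd D q x ∈ V → Set.range (img q κ x) ⊆ V := by
    rintro x hx _ ⟨Q, rfl⟩
    rw [D.eq_pt Q]; exact hx
  obtain ⟨ψ₀, hψ₀⟩ := exists_algHom hV x₀ (hr x₀ hyV)
  obtain ⟨ψ₁, hψ₁⟩ := exists_algHom hV x₁ (hr x₁ (h ▸ hyV))
  let π : R' ⊗[R] κ →ₐ[R'] κ :=
    Algebra.TensorProduct.lift (Algebra.ofId R' κ) (AlgHom.id R κ) (fun _ _ => Commute.all _ _)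
  have hπψ : π.comp ψ₀ = π.comp ψ₁ := by
    have hk : RingHom.ker (π.comp ψ₀).toRingHom = RingHom.ker (π.comp ψ₁).toRingHom := by
      have e : ∀ (x : T R κ ⟶ W) (ψ : Γ(N'.left, V) →ₐ[R'] R' ⊗[R] κ),
          img q κ x = Spec.map (CommRingCat.ofHom ψ.toRingHom) ≫ hV.fromSpec →
          rd D q x = hV.fromSpec (Spec.map (CommRingCat.ofHom (π.comp ψ).toRingHom) (IsLocalRing.closedPoint κ)) := by
        intro x ψ hx
        unfold rd Red.pt
        rw [hx, ← Scheme.Hom.comp_apply, ← Category.assoc, ← Spec.map_comp, Scheme.Hom.comp_apply]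
        rfl
      rw [e x₀ ψ₀ hψ₀, e x₁ ψ₁ hψ₁] at h
      have h2 := congrArg PrimeSpectrum.asIdeal (hV.fromSpec.isOpenEmbedding.injective h)
      have e2 : ∀ φ : Γ(N'.left, V) →+* κ,
          (Spec.map (CommRingCat.ofHom φ) (IsLocalRing.closedPoint κ)).asIdeal = RingHom.ker φ := fun φ => by
        show Ideal.comap φ (IsLocalRing.maximalIdeal κ) = _
        rw [IsLocalRing.isField_iff_maximalIdeal_eq.1 (Field.toIsField κ)]
        rfl
      rwa [e2, e2] at h2
    refine AlgHom.ext fun a => ?_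
    obtain ⟨r, hr⟩ := D.surjective (π.comp ψ₀ a)
    have h0 : a - algebraMap R' _ r ∈ RingHom.ker (π.comp ψ₀).toRingHom := by
      show π.comp ψ₀ (a - algebraMap R' _ r) = 0
      rw [map_sub, AlgHom.commutes, ← hr]
      exact sub_self _
    rw [hk] at h0
    have h1 : π.comp ψ₁ (a - algebraMap R' _ r) = 0 := h0
    rw [map_sub, AlgHom.commutes, sub_eq_zero] at h1
    rw [h1, ← hr]; rfl
  -- the family over the affine line
  let A : Type u := Polynomial κ
  letI : Algebra R' A := (C.comp D.θ).toAlgebra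
  haveI : IsScalarTower R R' A := IsScalarTower.of_algebraMap_eq fun r => by
    show algebraMap R (Polynomial κ) r = C (D.θ (algebraMap R R' r))
    rw [D.hθ]; rfl
  have hA : ∀ r ∈ IsLocalRing.maximalIdeal R', algebraMap R' A r = 0 := fun r hr => by
    show C (D.θ r) = 0
    rw [show D.θ r = 0 from D.kills r hr, map_zero]
  let ev : κ → (A →ₐ[R'] κ) := fun c =>
    { evalRingHom c with commutes' := fun r => eval_C }
  let πA : R' ⊗[R] A →ₐ[R'] A :=
    Algebra.TensorProduct.lift (Algebra.ofId R' A) (AlgHom.id R A) (fun _ _ => Commute.all _ _)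
  let M : κ → (R' ⊗[R] A →ₐ[R'] R' ⊗[R] κ) := fun c =>
    Algebra.TensorProduct.map (AlgHom.id R' R') ((ev c).restrictScalars R)
  let Φ : R' ⊗[R] A →ₐ[R'] (R' ⊗[R] κ) × (R' ⊗[R] κ) × A := (M 0).prod ((M 1).prod πA)
  have hΦ : IsNilpotent (RingHom.ker (Φ.rangeRestrict : R' ⊗[R] A →+* Φ.range)) := by
    obtain ⟨n, hn⟩ := isNilpotent_ker D.hθ D.hker D.he (A := A) hA
    refine ⟨n, eq_bot_iff.2 ((Ideal.pow_right_mono ?_ n).trans hn.le)⟩
    intro p hp
    have h := congrArg Subtype.val (RingHom.mem_ker.1 hp)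
    exact congrArg (fun t => t.2.2) h
  have hC : ∀ c : κ, algebraMap κ A c = C c := fun _ => rfl
  let cA : κ →ₐ[R'] A := { (C : κ →+* A) with commutes' := fun r => rfl }
  let f₀ : Γ(N'.left, V) →ₐ[R'] (R' ⊗[R] κ) × (R' ⊗[R] κ) × A := ψ₀.prod (ψ₁.prod (cA.comp (π.comp ψ₀)))
  have hsur : ∀ b : R' ⊗[R] κ, ∃ r : R', r ⊗ₜ[R] (1 : κ) = b := fun b => by
    induction b using TensorProduct.induction_on with
    | zero => exact ⟨0, TensorProduct.zero_tmul _ _⟩
    | tmul r a =>
      obtain ⟨r₀, rfl⟩ := IsLocalRing.residue_surjective a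
      exact ⟨r₀ • r, by rw [TensorProduct.smul_tmul, Algebra.smul_def, _root_.mul_one]; rfl⟩
    | add a b ha hb =>
      obtain ⟨r, rfl⟩ := ha
      obtain ⟨r', rfl⟩ := hb
      exact ⟨r + r', TensorProduct.add_tmul _ _ _⟩
  have hrange : ∀ v, f₀ v ∈ Φ.range := fun v => by
    obtain ⟨r₀, hr₀⟩ := hsur (ψ₀ v)
    obtain ⟨r₁, hr₁⟩ := hsur (ψ₁ v)
    refine ⟨r₀ ⊗ₜ[R] (1 - X : A) + r₁ ⊗ₜ[R] (X : A), ?_⟩
    have hθ₀ : π (ψ₀ v) = D.θ r₀ := by rw [← hr₀]; simp [π]; rfl
    have hθ₁ : π (ψ₀ v) = D.θ r₁ := by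
      rw [show π (ψ₀ v) = π (ψ₁ v) from DFunLike.congr_fun hπψ v, ← hr₁]; simp [π]; rfl
    refine Prod.ext ?_ (Prod.ext ?_ ?_)
    · show M 0 _ = ψ₀ v
      simp [M, ev, A, hr₀]
    · show M 1 _ = ψ₁ v
      simp [M, ev, A, hr₁]
    · show πA _ = C (π (ψ₀ v))
      rw [map_add, Algebra.TensorProduct.lift_tmul, Algebra.TensorProduct.lift_tmul]
      show C (D.θ r₀) * (1 - X) + C (D.θ r₁) * X = C (π (ψ₀ v))
      rw [← hθ₀, ← hθ₁]; ring
  let f : Γ(N'.left, V) →ₐ[R'] Φ.range := f₀.codRestrict _ hrange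
  let Ψ := Algebra.FormallySmooth.liftOfSurjective f Φ.rangeRestrict Φ.rangeRestrict_surjective hΦ
  have hΨ : ∀ v, Φ (Ψ v) = f₀ v := fun v =>
    congrArg Subtype.val (Algebra.FormallySmooth.liftOfSurjective_apply f Φ.rangeRestrict
      Φ.rangeRestrict_surjective hΦ v)
  obtain ⟨g, hg⟩ := exists_point hW hV Ψ
  have key : ∀ (c : κ) (x : T R κ ⟶ W) (ψ : Γ(N'.left, V) →ₐ[R'] R' ⊗[R] κ),
      img q κ x = Spec.map (CommRingCat.ofHom ψ.toRingHom) ≫ hV.fromSpec → (∀ v, M c (Ψ v) = ψ v) →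
      Tmap ((ev c).restrictScalars R) ≫ g = x := fun c x ψ hx hv => by
    refine img_injective hW ?_
    rw [img_Tmap, hg, hx, ← Category.assoc, ← Spec.map_comp]
    congr 2
    ext v
    exact hv v
  rw [← key 0 x₀ ψ₀ hψ₀ (fun v => congrArg (fun t => t.1) (hΨ v)),
    ← key 1 x₁ ψ₁ hψ₁ (fun v => congrArg (fun t => t.2.1) (hΨ v))]
  haveI : PreconnectedSpace (PrimeSpectrum A) := inferInstance
  exact loc_connected D hA g _ _

end Groth.Agent.WeilComp27
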