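import Groth.Agent.WeilComp27.Main

/-!
# The reduction homomorphism on points
-/

set_option autoImplicit false
set_option linter.all false
set_option backward.isDefEq.respectTransparency false
set_option backward.isDefEq.respectTransparency.types false
set_option maxHeartbeats 1000000

universe u

open CategoryTheory CategoryTheory.Limits AlgebraicGeometry TensorProduct MonoidalCategory CartesianMonoidalCategory MonObj

noncomputable section

namespace Groth.Agent.WeilComp27

variable {R R' : Type u} [CommRing R] [CommRing R'] [Algebra R R'] [IsLocalRing R] [IsLocalRing R']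
  [IsLocalHom (algebraMap R R')] (D : Red R R') {N' : Over (Spec (CommRingCat.of R'))}
  {W : Over (Spec (CommRingCat.of R))} {q : _root_.Red.bc (str R' R) W ⟶ N'} [Smooth N'.hom]

local notation3 "κ" => IsLocalRing.ResidueField R
local notation3 "κ'" => IsLocalRing.ResidueField R'

variable (R R') in
/-- The spectrum of the residue field over the spectrum of its base change. -/
def jres : Over.mk (Spec.map (CommRingCat.ofHom (IsLocalRing.residue R'))) ⟶ _root_.Red.bc (str R' R) (T R κ) :=
  Over.homMk (pullback.lift (Spec.map (CommRingCat.ofHom (algebraMap κ κ')))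
    (Spec.map (CommRingCat.ofHom (IsLocalRing.residue R'))) (by
      show Spec.map _ ≫ Spec.map _ = Spec.map _ ≫ Spec.map _
      rw [← Spec.map_comp, ← Spec.map_comp]
      congr 1)) (pullback.lift_snd _ _ _)

variable (q) in
/-- The reduction of points. -/
def redPt (x : T R κ ⟶ W) : Over.mk (Spec.map (CommRingCat.ofHom (IsLocalRing.residue R'))) ⟶ N' :=
  jres R R' ≫ WeilRes.restr (str R' R) q (T R κ) x

theorem redPt_apply (x : T R κ ⟶ W) : (redPt q x).left (IsLocalRing.closedPoint κ') = rd D q x :=
  restr_apply_eq D x ((jres R R').left (IsLocalRing.closedPoint κ'))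

section Grp

variable [GrpObj W] [GrpObj N'] [IsMonHom q]

variable (q) in
/-- The reduction of points is a homomorphism. -/
def redHom : (T R κ ⟶ W) →* (Over.mk (Spec.map (CommRingCat.ofHom (IsLocalRing.residue R'))) ⟶ N') where
  toFun := redPt q
  map_one' := by unfold redPt; rw [WeilRes.restr_one, MonObj.comp_one]
  map_mul' x y := by unfold redPt; rw [WeilRes.restr_mul, MonObj.comp_mul]

end Grp

/-- Points with values in the residue field are determined by their place. -/
theorem hom_ext_residue (a b : Over.mk (Spec.map (CommRingCat.ofHom (IsLocalRing.residue R'))) ⟶ N')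
    (h : a.left (IsLocalRing.closedPoint κ') = b.left (IsLocalRing.closedPoint κ')) : a = b := by
  obtain ⟨V, hV, hyV, -⟩ :=
    exists_isAffineOpen_mem_and_subset (x := a.left (IsLocalRing.closedPoint κ')) (U := ⊤) trivial
  have key : ∀ c : Over.mk (Spec.map (CommRingCat.ofHom (IsLocalRing.residue R'))) ⟶ N',
      c.left (IsLocalRing.closedPoint κ') ∈ V →
      ∃ φ : Γ(N'.left, V) →+* κ', Spec.map (CommRingCat.ofHom φ) ≫ hV.fromSpec = c.left ∧
        letI := secAlg V; ∀ r, φ (algebraMap R' Γ(N'.left, V) r) = IsLocalRing.residue R' r := by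
    intro c hc
    obtain ⟨φ, hφ⟩ := Spec.map_surjective (IsOpenImmersion.lift hV.fromSpec c.left (by
      rw [hV.range_fromSpec]
      rintro _ ⟨p, rfl⟩
      rw [Subsingleton.elim p (IsLocalRing.closedPoint κ')]; exact hc))
    have hfac : Spec.map φ ≫ hV.fromSpec = c.left := by rw [hφ, IsOpenImmersion.lift_fac]
    letI := secAlg V
    refine ⟨φ.hom, hfac, fun r => ?_⟩
    have e : CommRingCat.ofHom (algebraMap R' Γ(N'.left, V)) ≫ φ = CommRingCat.ofHom (IsLocalRing.residue R') := by
      refine Spec.map_injective ?_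
      rw [Spec.map_comp, ← fromSpec_hom hV, ← Category.assoc, hfac]
      exact Over.w c
    exact ConcreteCategory.congr_hom e r
  obtain ⟨φa, ha, hra⟩ := key a hyV
  obtain ⟨φb, hb, hrb⟩ := key b (h ▸ hyV)
  letI := secAlg V
  have hk : RingHom.ker φa = RingHom.ker φb := by
    have h2 : (Spec.map (CommRingCat.ofHom φa) ≫ hV.fromSpec) (IsLocalRing.closedPoint κ') =
        (Spec.map (CommRingCat.ofHom φb) ≫ hV.fromSpec) (IsLocalRing.closedPoint κ') := by rw [ha, hb]; exact h
    have h3 := congrArg PrimeSpectrum.asIdeal (hV.fromSpec.isOpenEmbedding.injective h2)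
    have e2 : ∀ φ : Γ(N'.left, V) →+* κ',
        (Spec.map (CommRingCat.ofHom φ) (IsLocalRing.closedPoint κ')).asIdeal = RingHom.ker φ := fun φ => by
      show Ideal.comap φ (IsLocalRing.maximalIdeal κ') = _
      rw [IsLocalRing.isField_iff_maximalIdeal_eq.1 (Field.toIsField κ')]
      rfl
    exact (e2 φa).symm.trans (h3.trans (e2 φb))
  refine Over.OverMorphism.ext ?_
  rw [← ha, ← hb]
  congr 3
  refine RingHom.ext fun v => ?_
  obtain ⟨r, hr⟩ := IsLocalRing.residue_surjective (φa v)
  have h0 : v - algebraMap R' _ r ∈ RingHom.ker φa := by rw [RingHom.mem_ker, map_sub, hra, hr, sub_self]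
  rw [hk, RingHom.mem_ker, map_sub, hrb, sub_eq_zero] at h0
  rw [h0, hr]

variable [IsAlgClosed (IsLocalRing.ResidueField R)]

include D in
/-- Every point over the residue field is a reduction. -/
theorem redPt_surjective (hW : WeilRes.IsWeilRes (str R' R) N' W q)
    (a : Over.mk (Spec.map (CommRingCat.ofHom (IsLocalRing.residue R'))) ⟶ N') : ∃ x, redPt q x = a := by
  let y := a.left (IsLocalRing.closedPoint κ')
  have hy : y ∈ fib R' N' := by
    show (a.left ≫ N'.hom) (IsLocalRing.closedPoint κ') = IsLocalRing.closedPoint R'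
    rw [Over.w a]
    refine PrimeSpectrum.ext ?_
    show Ideal.comap (IsLocalRing.residue R') (IsLocalRing.maximalIdeal κ') = IsLocalRing.maximalIdeal R'
    rw [IsLocalRing.isField_iff_maximalIdeal_eq.1 (Field.toIsField κ')]
    exact Ideal.mk_ker
  obtain ⟨V, hV, hyV, hirr, -⟩ := exists_chart N' y hy
  obtain ⟨S, -, -, -, -, hφ⟩ := exists_family D hW hV hirr
  obtain ⟨φ, hφc⟩ := Spec.map_surjective (IsOpenImmersion.lift hV.fromSpec a.left (by
    rw [hV.range_fromSpec]
    rintro _ ⟨p, rfl⟩
    rw [Subsingleton.elim p (IsLocalRing.closedPoint κ')]; exact hyV))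
  have hfac : Spec.map φ ≫ hV.fromSpec = a.left := by rw [hφc, IsOpenImmersion.lift_fac]
  letI := secAlg V
  letI := D.alg
  let lam : κ' →+* κ := Ideal.Quotient.lift (IsLocalRing.maximalIdeal R') D.θ (fun r hr => D.kills r hr)
  let ψ : Γ(N'.left, V) →ₐ[R'] κ :=
    { lam.comp φ.hom with
      commutes' := fun r => by
        show lam (φ.hom (algebraMap R' Γ(N'.left, V) r)) = D.θ r
        have e : CommRingCat.ofHom (algebraMap R' Γ(N'.left, V)) ≫ φ = CommRingCat.ofHom (IsLocalRing.residue R') := by
          refine Spec.map_injective ?_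
          rw [Spec.map_comp, ← fromSpec_hom hV, ← Category.assoc, hfac]
          exact Over.w a
        have e2 : φ.hom (algebraMap R' Γ(N'.left, V) r) = IsLocalRing.residue R' r := ConcreteCategory.congr_hom e r
        rw [e2]
        exact Ideal.Quotient.lift_mk _ _ _ }
  obtain ⟨x, hx⟩ := hφ ψ
  refine ⟨x, hom_ext_residue _ _ ?_⟩
  rw [redPt_apply D, hx, ← hfac, Scheme.Hom.comp_apply]
  congr 1
  refine PrimeSpectrum.ext ?_
  ext v
  show lam (φ.hom v) ∈ IsLocalRing.maximalIdeal κ ↔ φ.hom v ∈ IsLocalRing.maximalIdeal κ'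
  rw [IsLocalRing.isField_iff_maximalIdeal_eq.1 (Field.toIsField κ),
    IsLocalRing.isField_iff_maximalIdeal_eq.1 (Field.toIsField κ'), Ideal.mem_bot, Ideal.mem_bot,
    map_eq_zero_iff _ lam.injective]

end Groth.Agent.WeilComp27
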